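import Cfsg.Agent.Lib.Chev.Build
import Cfsg.Prelude.Def_ChevG2

/-! Tables and checks for type G2. -/

set_option autoImplicit false

namespace Cfsg.Agent.Chev

open Cfsg.Lie

noncomputable def tG2_co : ℕ := nat_lit 0xab9b9a998998788777767565
noncomputable def tG2_A : ℕ := nat_lit 0x987989b75aa769b659879778
noncomputable def tG2_cor : ℕ := nat_lit 0xa999bab98998788757567767
noncomputable def tG2_B : ℕ := nat_lit 0xe55a
noncomputable def tG2_ca : ℕ := nat_lit 0x97897a6978978b97a5b69758
noncomputable def tG2_um : ℕ := nat_lit 0x810c2
noncomputable def tG2_len : ℕ := nat_lit 0xf57d5f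
noncomputable def tG2_neg : ℕ := nat_lit 0x102030405060708090a0b
noncomputable def tG2_sim : ℕ := nat_lit 0x607
noncomputable def tG2_rs : ℕ := nat_lit 0xa0b090708050603040200010b060809040a010702030500
noncomputable def tG2_eta : ℕ := nat_lit 0x969696
noncomputable def tG2_K : ℕ := nat_lit 0x21
noncomputable def tG2_rows : ℕ := nat_lit 0x614000000000000018480000142000000a0c0000000000000000000000000000000000000000000000000000000c2c00000000000003090000000000000141c000000000000050500000000000000000000000000000010b000000850000000000000000000085e08001c290380000000185d08a0942983d030000000000000000000000e1600000000001c2f0480000000185b0960e000007060000000000020c8100000000141a823020000000000000000000000e14000852090000000050aa12c20000000000000000000000382800e0b80d82b03604000000000000000000000142c00000000000000000000028400000000000000000000000000000018200000000000000000000003010000028500000000000000000000005070000000000000000000000000000003030000000000000000000000600000000000000000050661142400706410000001060000000000000000180d02a060000000000040701000000404000000000000000060b41e8480000000000105c0e0000000000000082d006054100000000000380202000000000000004000000000000000000602c1184500a06c1c0000000000380e040004010180000000000000000000007010000038000000000000000000000000000000018300000000000000608000000000000028100000000000000a000000000000000000000000000000000000000000000000000000000c140000060600000502000000000000014040000000000000000000000000000000000000000000000000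
noncomputable def tG2 : Tab where
  co := tG2_co
  A := tG2_A
  cor := tG2_cor
  B := tG2_B
  ca := tG2_ca
  um := tG2_um
  len := tG2_len
  neg := tG2_neg
  sim := tG2_sim
  rs := tG2_rs
  eta := tG2_eta
  K := tG2_K
  rows := tG2_rows

def g2_reps : List (ℕ × ℕ × List Term) := [(9, 1, [(4, 1, 1, 1), (8, 2, 1, 1), (11, 3, 1, -1), (6, 3, 2, 2)]), (9, 4, [(8, 1, 1, 2), (6, 1, 2, -3), (11, 2, 1, -3)]), (9, 6, []), (9, 8, [(11, 1, 1, -3)]), (9, 11, []), (11, 3, [(9, 1, 1, -1), (7, 1, 2, -1), (5, 1, 3, 1), (10, 2, 3, 1)]), (11, 5, [(10, 1, 1, -1)]), (11, 7, []), (11, 9, []), (11, 10, [])]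
noncomputable def g2_mu : ℕ := nat_lit 0xa1106300620061000000000000000000000000000000000
noncomputable def g2_rk : ℕ := nat_lit 0x1020000
noncomputable def g2_pa : ℕ := nat_lit 0x10031000000
def g2_chs : List (ℕ × ℕ × ℕ × ℕ × List ℕ) :=
  [(6, 0x240, 0x24, 0x60,
   [1, 0]),
  (7, 0x200, 0x4, 0x88,
   [1, 0])]

theorem g2_R : tG2.chkR chevG2 = true := by decide +kernel
theorem g2_D : tG2.chkD chevG2 = true := by decide +kernel
theorem g2_M : allB chevG2.nroots (tG2.chkM chevG2) = true := by decide +kernel
theorem g2_W : allB chevG2.nroots (tG2.chkW chevG2) = true := by decide +kernel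
theorem g2_N0 : tG2.chkN chevG2 0 = true := by decide +kernel
theorem g2_N1 : tG2.chkN chevG2 1 = true := by decide +kernel
theorem g2_C0 : tG2.chkC chevG2 0 = true := by decide +kernel
theorem g2_C1 : tG2.chkC chevG2 1 = true := by decide +kernel
theorem g2_rep : allL g2_reps (tG2.chkRep chevG2) = true := by decide +kernel
theorem g2_red : tG2.chkRed chevG2 g2_reps = true := by decide +kernel
theorem g2_mu_ok : tG2.chkMu chevG2 g2_mu = true := by decide +kernel
theorem g2_J : tG2.chkJ chevG2 = true := by decide +kernel
theorem g2_cov : tG2.chkCov chevG2 1 1 g2_rk g2_pa = true := by decide +kernel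
theorem g2_ns : (cntB chevG2.nroots fun r => ilt 0 (tG2.fht chevG2 r) && tG2.evB chevG2 1 r) = 2 := by decide +kernel
theorem g2_chs_ok : tG2.chkChain chevG2 1 [] g2_chs = true := by decide +kernel

theorem g2_ok : tG2.OK chevG2 where
  hR := g2_R
  hD := g2_D
  hM := g2_M
  hW := g2_W
  hN := fun i hi => by
    have hi' : i < 2 := hi
    interval_cases i
    exacts [g2_N0, g2_N1]
  hC := fun i hi => by
    have hi' : i < 2 := hi
    interval_cases i
    exacts [g2_C0, g2_C1]

/-- The Chevalley group of type G2 as a `Sys`. -/
noncomputable def g2_sys (F : Type*) [Field F] : Sys (Tab.rd g2_ok.hR) F (chevG2.group F) :=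
  g2_ok.sys g2_reps g2_mu g2_rep g2_red g2_mu_ok F

end Cfsg.Agent.Chev
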